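import Cfsg.Agent.H25.IsoFrob

/-!
# S4879, box (H): a Frobenius-stable subspace contains words of small support over the prime field
-/

set_option autoImplicit false

namespace Cfsg.Agent.H756.LB

/-- **Words of small support.** A Frobenius-stable subspace `U` of `K^B` that does not vanish at the coordinate `o`
contains a word `w` with integral values, `w_o = 1`, and at most `|B| - dim U` further nonzero coordinates. -/
theorem exists_small {K : Type*} [Field K] {p : ℕ} [Fact p.Prime] [CharP K p] {B : Type*} [Fintype B]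
    (U : Submodule K (B → K)) (hfrob : ∀ v ∈ U, (fun b => v b ^ p) ∈ U) (o : B) (ho : ∃ v ∈ U, v o ≠ 0) :
    ∃ w : B → ℤ, w o = 1 ∧ (fun b => ((w b : ℤ) : K)) ∈ U ∧
      Nat.card {b : B // b ≠ o ∧ ((w b : ℤ) : K) ≠ 0} + Module.finrank K U ≤ Fintype.card B := by
  classical
  obtain ⟨I, _, _, a, φ, ha, hφ⟩ := H25.IsoFrob.exists_coord U
  have hI : Fintype.card I = Module.finrank K U := by
    rw [φ.finrank_eq, Module.finrank_pi]
  set u : I → U := fun i => φ.symm (Pi.single i 1) with hu
  have hua : ∀ i j, (u i : B → K) (a j) = (Pi.single i 1 : I → K) j := by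
    intro i j
    rw [← hφ, hu]
    simp
  have hp0 : p ≠ 0 := (Fact.out : p.Prime).ne_zero
  have hfix : ∀ i b, (u i : B → K) b ^ p = (u i : B → K) b := by
    intro i
    have h1 : φ ⟨_, hfrob _ (u i).2⟩ = φ (u i) := by
      ext j
      rw [hφ, hφ]
      simp only [hua]
      by_cases h : j = i
      · subst h; simp
      · simp [h, hp0]
    have h2 := congrArg Subtype.val (φ.injective h1)
    intro b
    exact congrFun h2 b
  -- a basis vector that does not vanish at `o`
  obtain ⟨i, hi⟩ : ∃ i, (u i : B → K) o ≠ 0 := by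
    by_contra hcon
    push Not at hcon
    obtain ⟨v, hv, hvo⟩ := ho
    apply hvo
    have h1 : (⟨v, hv⟩ : U) = ∑ i, v (a i) • u i := by
      apply φ.injective
      ext j
      rw [map_sum]
      simp only [map_smul, Finset.sum_apply, Pi.smul_apply, hφ, hua, smul_eq_mul]
      simp [Pi.single_apply]
    have h2 := congrFun (congrArg Subtype.val h1) o
    have h3 : ((∑ i, v (a i) • u i : U) : B → K) o = ∑ i, v (a i) * (u i : B → K) o := by
      rw [AddSubmonoidClass.coe_finsetSum, Finset.sum_apply]
      rfl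
    rw [h3] at h2
    have h4 : v o = ∑ i, v (a i) * (u i : B → K) o := h2
    rw [h4]
    exact Finset.sum_eq_zero fun i _ => by rw [hcon i, mul_zero]
  set c : K := (u i : B → K) o with hc
  have hcp : c ^ p = c := hfix i o
  have hval : ∀ b, ∃ n : ℤ, (n : K) = c⁻¹ * (u i : B → K) b := by
    intro b
    rw [← mem_bot_iff_intCast p K, Subfield.mem_bot_iff_pow_eq_self K p, mul_pow, inv_pow, hcp, hfix]
  choose n hn using hval
  let w : B → ℤ := fun b => if b = o then 1 else n b
  have hw : ∀ b, ((w b : ℤ) : K) = c⁻¹ * (u i : B → K) b := by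
    intro b
    by_cases hb : b = o
    · subst hb
      show (((if b = b then 1 else n b : ℤ)) : K) = _
      rw [if_pos rfl, Int.cast_one, ← hc, inv_mul_cancel₀ hi]
    · show (((if b = o then 1 else n b : ℤ)) : K) = _
      rw [if_neg hb, hn]
  refine ⟨w, if_pos rfl, ?_, ?_⟩
  · have h1 : (fun b => ((w b : ℤ) : K)) = c⁻¹ • (u i : B → K) := by
      funext b
      rw [hw, Pi.smul_apply, smul_eq_mul]
    rw [h1]
    exact U.smul_mem _ (u i).2
  · -- the zeros
    have h1 : ∀ j, j ≠ i → ((w (a j) : ℤ) : K) = 0 := by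
      intro j hj
      rw [hw, hua, Pi.single_eq_of_ne hj, mul_zero]
    have h2 : ∀ j, j ≠ i → a j ≠ o := by
      intro j hj h3
      apply hi
      rw [hc, ← h3, hua, Pi.single_eq_of_ne hj]
    -- injection of `I` into the complement
    rw [← hI, Nat.card_eq_fintype_card]
    let f : I → {b : B // ¬ (b ≠ o ∧ ((w b : ℤ) : K) ≠ 0)} := fun j =>
      if h : j = i then ⟨o, fun h' => h'.1 rfl⟩ else ⟨a j, fun h' => h'.2 (h1 j h)⟩
    have hf : Function.Injective f := by
      intro j k hjk
      by_cases hj : j = i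
      · by_cases hk : k = i
        · rw [hj, hk]
        · exfalso
          have h5 : ((f j : {b : B // ¬ (b ≠ o ∧ ((w b : ℤ) : K) ≠ 0)}) : B) = f k := congrArg _ hjk
          simp only [f, dif_pos hj, dif_neg hk] at h5
          exact h2 k hk h5.symm
      · by_cases hk : k = i
        · exfalso
          have h5 : ((f j : {b : B // ¬ (b ≠ o ∧ ((w b : ℤ) : K) ≠ 0)}) : B) = f k := congrArg _ hjk
          simp only [f, dif_neg hj, dif_pos hk] at h5
          exact h2 j hj h5
        · have h5 : ((f j : {b : B // ¬ (b ≠ o ∧ ((w b : ℤ) : K) ≠ 0)}) : B) = f k := congrArg _ hjk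
          simp only [f, dif_neg hj, dif_neg hk] at h5
          exact ha h5
    have h6 := Fintype.card_le_of_injective f hf
    have h7 := Fintype.card_subtype_compl (fun b : B => b ≠ o ∧ ((w b : ℤ) : K) ≠ 0)
    have h8 := Fintype.card_subtype_le (fun b : B => b ≠ o ∧ ((w b : ℤ) : K) ≠ 0)
    have h9 : Fintype.card {b : B // ¬ (b ≠ o ∧ ((w b : ℤ) : K) ≠ 0)} =
        Fintype.card B - Fintype.card {b : B // b ≠ o ∧ ((w b : ℤ) : K) ≠ 0} := by
      convert h7
    omega

end Cfsg.Agent.H756.LB
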