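import Cfsg.Agent.H634.OneP.Code
import Cfsg.Agent.H756.LB.Small

/-!
# S4879, box (H), piece (H3): integral words of small support in the code of a `p`-section
-/

set_option autoImplicit false

open Cfsg IsLocalRing ComplexConjugate

namespace Cfsg.Agent.H756.LB

open Cfsg.Agent.H657 Cfsg.Agent.H634.OneP Cfsg.Agent.Blocks.Basic

universe u

variable {G : Type u} [Group G] [Finite G] {p : ℕ} [hp : Fact p.Prime] {M : Ideal AlgInt}
  {V : ValuationSubring ℂ}

/-- Block orthogonality modulo `V` between the section of `x` and an arbitrary `p`-regular element. -/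
theorem ortho_all (hM : IsPModular p M) (hV : Above M V) {x : G} (hx : ∃ k : ℕ, orderOf x = p ^ k)
    (hx1 : x ≠ 1) (s : Subgroup.centralizer ({x} : Set G)) (g : G) (hs : ¬ p ∣ orderOf s)
    (hg : ¬ p ∣ orderOf g) :
    ∑ᶠ χ ∈ principalBlock M G, rd V (χ : G → ℂ) s * rd V (χ : G → ℂ) g = 0 := by
  classical
  have : Finite (IrrCharacter G) := Characters.Core.finite_irr
  have := Fintype.ofFinite (IrrCharacter G)
  have hc : Commute x (s : G) := (Subgroup.mem_centralizer_singleton_iff.1 s.2).symm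
  have h1 : p ∣ orderOf (x * s)⁻¹ := by
    rw [orderOf_inv]
    obtain ⟨k, hk⟩ := hx
    have hk0 : k ≠ 0 := by
      rintro rfl
      exact hx1 (orderOf_eq_one_iff.1 (by rw [hk, pow_zero]))
    have hcop : Nat.Coprime (orderOf x) (orderOf (s : G)) := by
      rw [hk, Subgroup.orderOf_coe]
      exact Nat.Coprime.pow_left _ ((Nat.Prime.coprime_iff_not_dvd hp.out).2 hs)
    rw [hc.orderOf_mul_eq_mul_orderOf_of_coprime hcop, hk]
    exact (dvd_pow_self p hk0).mul_right _
  have h2 := Cfsg.Agent.S0907.result p M hM (principalBlock M G)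
    Blocks.PrincipalSection.isPBlock_principalBlock g (x * s)⁻¹ hg h1
  have ha : ∀ (χ : IrrCharacter G) (g : G), ∃ v : V, (χ : G → ℂ) g = v := by
    intro χ g
    obtain ⟨d, μ, h⟩ := H352.OneP.exists_lift hV χ g
    exact ⟨_, by rw [← h 1, pow_one]⟩
  choose a ha using ha
  have h3 : ∀ χ : IrrCharacter G, (χ : G → ℂ) g * conj ((χ : G → ℂ) (x * s)⁻¹) =
      ((a χ g * a χ (x * s) : V) : ℂ) := by
    intro χ
    rw [Characters.Core.isCharacter_apply_inv (Characters.Core.isIrr_isCharacter χ.2), Complex.conj_conj, ha, ha]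
    rfl
  simp only [h3] at h2
  rw [finsum_mem_eq_toFinset_sum] at h2 ⊢
  have h4 : (∑ χ ∈ (principalBlock M G).toFinset, a χ g * a χ (x * s) : V) = 0 := by
    apply Subtype.ext
    push_cast
    push_cast at h2
    exact h2
  have h5 := congrArg (residue V) h4
  rw [map_sum, map_zero] at h5
  rw [← h5]
  refine Finset.sum_congr rfl fun χ _ => ?_
  rw [map_mul, ← H352.OneP.rd_eq (ha χ g), ← H352.OneP.rd_eq (ha χ (x * s)),
    H352.OneP.rd_section hM hV χ hc hx, mul_comm]

/-- **(H3).** -/
theorem exists_word (hM : IsPModular p M) (hV : Above M V) {x : G} (hx : ∃ k : ℕ, orderOf x = p ^ k) (hx1 : x ≠ 1)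
    (hst : ∀ ψ ∈ principalBlock M (Subgroup.centralizer ({x} : Set G)),
      ∀ s s' : Subgroup.centralizer ({x} : Set G), ¬ p ∣ orderOf s → IsConj (s : G) (s' : G) →
        rd V (ψ : Subgroup.centralizer ({x} : Set G) → ℂ) s' =
          rd V (ψ : Subgroup.centralizer ({x} : Set G) → ℂ) s) (e : ℕ)
    (he : e ≤ blockRank p (principalBlock M (Subgroup.centralizer ({x} : Set G))))
    [Fintype (IrrCharacter G)] :
    ∃ w : IrrCharacter G → ℤ, (∀ χ, χ ∉ principalBlock M G → w χ = 0) ∧
      w (⟨fun _ => 1, isIrrCharacter_one⟩ : IrrCharacter G) = 1 ∧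
      Nat.card {χ : IrrCharacter G // χ ≠ (⟨fun _ => 1, isIrrCharacter_one⟩ : IrrCharacter G) ∧
        ¬ (p : ℤ) ∣ w χ} + e ≤ Nat.card (principalBlock M G) ∧
      (p : ℤ) ∣ ∑ χ, w χ ^ 2 ∧
      ∀ g : G, ¬ p ∣ orderOf g → ∑ χ, (w χ : ResidueField V) * rd V (χ : G → ℂ) g = 0 := by
  classical
  have : CharP (ResidueField V) p := hV.charP hM
  have := Fintype.ofFinite (principalBlock M G)
  have := Fintype.ofFinite {s : Subgroup.centralizer ({x} : Set G) // ¬ p ∣ orderOf s}
  set one : IrrCharacter G := ⟨fun _ => 1, isIrrCharacter_one⟩ with hone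
  have hprime : M.IsPrime := hM.2.1.isPrime
  have hmem : one ∈ principalBlock M G := Blocks.PrincipalSection.one_mem_principalBlock
  let A : Matrix {s : Subgroup.centralizer ({x} : Set G) // ¬ p ∣ orderOf s} (principalBlock M G)
    (ResidueField V) := fun s χ => rd V ((χ : IrrCharacter G) : G → ℂ) ((s : Subgroup.centralizer ({x} : Set G)) : G)
  have hsum : ∀ F : IrrCharacter G → ResidueField V,
      ∑ χ : principalBlock M G, F χ = ∑ᶠ χ ∈ principalBlock M G, F χ := by
    intro F
    rw [finsum_mem_eq_finite_toFinset_sum _ (Set.toFinite _)]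
    exact (Finset.sum_subtype _ (fun χ => Set.Finite.mem_toFinset _) _).symm
  have hcard : Fintype.card (principalBlock M G) = Nat.card (principalBlock M G) :=
    Nat.card_eq_fintype_card.symm
  set U := Submodule.span (ResidueField V) (Set.range A.row) with hU
  -- orthogonality
  have hort : ∀ v ∈ U, ∀ g : G, ¬ p ∣ orderOf g →
      ∑ χ : principalBlock M G, v χ * rd V ((χ : IrrCharacter G) : G → ℂ) g = 0 := by
    intro v hv g hg
    induction hv using Submodule.span_induction with
    | mem v hv =>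
      obtain ⟨s, rfl⟩ := hv
      have h1 := ortho_all hM hV hx hx1 s.1 g s.2 hg
      rw [← hsum fun χ => rd V (χ : G → ℂ) ((s.1 : Subgroup.centralizer ({x} : Set G)) : G) *
        rd V (χ : G → ℂ) g] at h1
      exact h1
    | zero => simp
    | add v v' _ _ h h' =>
      simp only [Pi.add_apply, add_mul, Finset.sum_add_distrib, h, h', add_zero]
    | smul c v _ h =>
      have : ∀ χ : principalBlock M G, (c • v) χ * rd V ((χ : IrrCharacter G) : G → ℂ) g =
          c * (v χ * rd V ((χ : IrrCharacter G) : G → ℂ) g) := fun χ => by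
        rw [Pi.smul_apply, smul_eq_mul]; ring
      rw [Finset.sum_congr rfl fun b _ => this b, ← Finset.mul_sum, h, mul_zero]
  have hiso : ∀ v ∈ U, ∀ w ∈ U, ∑ χ : principalBlock M G, v χ * w χ = 0 := by
    intro v hv w hw
    induction hw using Submodule.span_induction with
    | mem w hw =>
      obtain ⟨s, rfl⟩ := hw
      have hs : ¬ p ∣ orderOf ((s.1 : Subgroup.centralizer ({x} : Set G)) : G) := by
        rw [Subgroup.orderOf_coe]; exact s.2
      exact hort v hv _ hs
    | zero => simp
    | add w w' _ _ h h' =>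
      simp only [Pi.add_apply, mul_add, Finset.sum_add_distrib, h, h', add_zero]
    | smul c w _ h =>
      have : ∀ χ : principalBlock M G, v χ * (c • w) χ = c * (v χ * w χ) := fun χ => by
        rw [Pi.smul_apply, smul_eq_mul]; ring
      rw [Finset.sum_congr rfl fun b _ => this b, ← Finset.mul_sum, h, mul_zero]
  -- Frobenius
  have hfrob : ∀ v ∈ U, (fun b => v b ^ p) ∈ U := by
    intro v hv
    induction hv using Submodule.span_induction with
    | mem v hv =>
      obtain ⟨s, rfl⟩ := hv
      refine Submodule.subset_span ⟨⟨s.1 ^ p, ?_⟩, ?_⟩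
      · intro h
        exact s.2 (h.trans (orderOf_pow_dvd p))
      · funext χ
        show rd V ((χ : IrrCharacter G) : G → ℂ) ((s.1 ^ p : Subgroup.centralizer ({x} : Set G)) : G) =
          rd V ((χ : IrrCharacter G) : G → ℂ) ((s.1 : Subgroup.centralizer ({x} : Set G)) : G) ^ p
        rw [H352.OneP.frob_mod hM hV, Subgroup.coe_pow]
    | zero =>
      have h0 : (fun b => (0 : principalBlock M G → ResidueField V) b ^ p) = 0 := by
        funext b
        simp [hp.out.ne_zero]
      rw [h0]
      exact Submodule.zero_mem _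
    | add v w _ _ h h' =>
      have h0 : (fun b => (v + w) b ^ p) = (fun b => v b ^ p) + fun b => w b ^ p := by
        funext b
        exact add_pow_char _ _ p
      rw [h0]
      exact Submodule.add_mem _ h h'
    | smul c v _ h =>
      have h0 : (fun b => (c • v) b ^ p) = c ^ p • fun b => v b ^ p := by
        funext b
        rw [Pi.smul_apply, Pi.smul_apply, smul_eq_mul, smul_eq_mul, mul_pow]
      rw [h0]
      exact Submodule.smul_mem _ _ h
  -- the dimension
  have hdim : e ≤ Module.finrank (ResidueField V) U := by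
    rw [hU, ← Matrix.rank_eq_finrank_span_row, Matrix.rank_eq_finrank_span_cols]
    refine he.trans ((H973.RankMod.rank_mod hM hV).trans (Submodule.finrank_mono ?_))
    rw [Submodule.span_le]
    rintro _ ⟨ψ, hψ, rfl⟩
    obtain ⟨a, ha⟩ := exists_lift hM hV hx hψ (hst ψ hψ)
    have h1 : (fun s : {s : Subgroup.centralizer ({x} : Set G) // ¬ p ∣ orderOf s} =>
        rd V (ψ : Subgroup.centralizer ({x} : Set G) → ℂ) s) = ∑ χ : principalBlock M G, a χ • A.col χ := by
      funext s
      rw [ha s s.2, Finset.sum_apply, ← hsum fun χ => a χ * rd V (χ : G → ℂ) ((s.1 : Subgroup.centralizer ({x} : Set G)) : G)]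
      rfl
    show (fun s : {s : Subgroup.centralizer ({x} : Set G) // ¬ p ∣ orderOf s} =>
        rd V (ψ : Subgroup.centralizer ({x} : Set G) → ℂ) s) ∈ _
    rw [h1]
    exact Submodule.sum_mem _ fun χ _ => Submodule.smul_mem _ _ (Submodule.subset_span ⟨χ, rfl⟩)
  -- the coordinate of the trivial character
  have hnz : ∃ v ∈ U, v ⟨one, hmem⟩ ≠ 0 := by
    have h1 : ¬ p ∣ orderOf (1 : Subgroup.centralizer ({x} : Set G)) := by
      rw [orderOf_one]
      exact hp.out.one_lt.ne' ∘ Nat.dvd_one.1
    refine ⟨_, Submodule.subset_span ⟨⟨1, h1⟩, rfl⟩, ?_⟩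
    show rd V ((one : IrrCharacter G) : G → ℂ) _ ≠ 0
    have h2 : ((one : IrrCharacter G) : G → ℂ)
        ((1 : Subgroup.centralizer ({x} : Set G)) : G) = ((1 : V) : ℂ) := by
      rw [hone]; rfl
    rw [H352.OneP.rd_eq h2, map_one]
    exact one_ne_zero
  obtain ⟨w, hw1, hwU, hwc⟩ := exists_small (p := p) U hfrob ⟨one, hmem⟩ hnz
  let W : IrrCharacter G → ℤ := fun χ => if h : χ ∈ principalBlock M G then w ⟨χ, h⟩ else 0
  have hW : ∀ χ : principalBlock M G, W χ = w χ := fun χ => dif_pos χ.2
  have hW0 : ∀ χ, χ ∉ principalBlock M G → W χ = 0 := fun χ h => dif_neg h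
  have hint : ∀ n : ℤ, ((n : ℤ) : ResidueField V) = 0 ↔ (p : ℤ) ∣ n := fun n =>
    CharP.intCast_eq_zero_iff (ResidueField V) p n
  have hsub : ∀ F : IrrCharacter G → ResidueField V, (∀ χ, χ ∉ principalBlock M G → F χ = 0) →
      ∑ χ, F χ = ∑ χ : principalBlock M G, F χ := by
    intro F hF
    rw [hsum, finsum_mem_ite]
    refine Finset.sum_congr rfl fun χ _ => ?_
    split_ifs with h
    · rfl
    · exact hF χ h
  refine ⟨W, hW0, ?_, ?_, ?_, ?_⟩
  · rw [show W one = w ⟨one, hmem⟩ from dif_pos hmem, hw1]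
  · -- the count
    rw [← hcard]
    refine le_trans (Nat.add_le_add ?_ hdim) hwc
    refine Nat.card_le_card_of_injective (fun χ : {χ : IrrCharacter G // χ ≠ one ∧ ¬ (p : ℤ) ∣ W χ} =>
      (⟨⟨χ.1, ?_⟩, ?_, ?_⟩ : {b : principalBlock M G // b ≠ ⟨one, hmem⟩ ∧ ((w b : ℤ) : ResidueField V) ≠ 0})) ?_
    · by_contra h
      exact χ.2.2 (by rw [hW0 _ h]; exact dvd_zero _)
    · intro h
      exact χ.2.1 (congrArg Subtype.val h)
    · intro h
      rw [hint] at h
      apply χ.2.2
      have h1 : χ.1 ∈ principalBlock M G := by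
        by_contra h
        exact χ.2.2 (by rw [hW0 _ h]; exact dvd_zero _)
      rw [show W χ.1 = w ⟨χ.1, h1⟩ from dif_pos h1]
      exact h
    · intro χ χ' h
      have h1 := congrArg (fun z => ((z.1 : principalBlock M G) : IrrCharacter G)) h
      exact Subtype.ext h1
  · -- the square
    rw [← hint]
    push_cast
    rw [hsub (fun χ => ((W χ : ℤ) : ResidueField V) ^ 2) (fun χ h => by rw [hW0 χ h]; simp)]
    rw [← hiso _ hwU _ hwU]
    refine Finset.sum_congr rfl fun χ _ => ?_
    rw [hW, sq]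
  · intro g hg
    rw [hsub (fun χ => ((W χ : ℤ) : ResidueField V) * rd V (χ : G → ℂ) g)
      (fun χ h => by rw [hW0 χ h]; simp)]
    rw [← hort _ hwU g hg]
    refine Finset.sum_congr rfl fun χ _ => ?_
    rw [hW]

end Cfsg.Agent.H756.LB
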